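import Groth.Agent.H9Existence.Embed
import Groth.Agent.AmpleVan.NakayamaFibre
import Mathlib.AlgebraicGeometry.Morphisms.Smooth
import Mathlib.RingTheory.Smooth.Basic

/-! Smooth affine adic systems are determined by their bottom level. -/

set_option autoImplicit false
set_option linter.style.haveILetI false
set_option backward.isDefEq.respectTransparency false
set_option backward.isDefEq.respectTransparency.types false

universe u

open CategoryTheory CategoryTheory.Limits AlgebraicGeometry TopologicalSpace Opposite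

noncomputable section

namespace Groth.Agent.H9CurveLift

open Groth.Agent
open Groth.Agent.AmpleVan (scal)

/-- Infinitesimal lifting along a smooth morphism of affine schemes. -/
theorem exists_lift_affine {T₀ T X Y : Scheme.{u}} [IsAffine T₀] [IsAffine T] [IsAffine X] [IsAffine Y]
    (i : T₀ ⟶ T) [IsClosedImmersion i] (hnil : IsNilpotent (RingHom.ker i.appTop.hom))
    (p : X ⟶ Y) [Smooth p] (c : T ⟶ Y) (b : T₀ ⟶ X) (h : b ≫ p = i ≫ c) :
    ∃ s : T ⟶ X, i ≫ s = b ∧ s ≫ p = c := by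
  have hsm : p.appTop.hom.Smooth := HasRingHomProperty.appTop (P := @Smooth) p inferInstance
  letI : Algebra Γ(Y, ⊤) Γ(X, ⊤) := p.appTop.hom.toAlgebra
  haveI : Algebra.Smooth Γ(Y, ⊤) Γ(X, ⊤) := hsm
  letI : Algebra Γ(Y, ⊤) Γ(T, ⊤) := c.appTop.hom.toAlgebra
  letI : Algebra Γ(Y, ⊤) Γ(T₀, ⊤) := (i.appTop.hom.comp c.appTop.hom).toAlgebra
  have hw : p.appTop ≫ b.appTop = c.appTop ≫ i.appTop := by
    rw [← Scheme.Hom.comp_appTop, ← Scheme.Hom.comp_appTop, h]
  let gi : Γ(T, ⊤) →ₐ[Γ(Y, ⊤)] Γ(T₀, ⊤) := { i.appTop.hom with commutes' := fun _ => rfl }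
  let gb : Γ(X, ⊤) →ₐ[Γ(Y, ⊤)] Γ(T₀, ⊤) :=
    { b.appTop.hom with commutes' := fun r => congr(($hw) r) }
  have hsurj : Function.Surjective gi := i.app_surjective ⊤ (isAffineOpen_top T)
  have hk : IsNilpotent (RingHom.ker (gi : Γ(T, ⊤) →+* Γ(T₀, ⊤))) := hnil
  let s := Algebra.FormallySmooth.liftOfSurjective gb gi hsurj hk
  have hs : gi.comp s = gb := Algebra.FormallySmooth.comp_liftOfSurjective gb gi hsurj hk
  have e1 : CommRingCat.ofHom s.toRingHom ≫ i.appTop = b.appTop :=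
    CommRingCat.hom_ext (congrArg AlgHom.toRingHom hs)
  have e2 : p.appTop ≫ CommRingCat.ofHom s.toRingHom = c.appTop :=
    CommRingCat.hom_ext (RingHom.ext fun r => s.commutes r)
  refine ⟨T.toSpecΓ ≫ Spec.map (CommRingCat.ofHom s.toRingHom) ≫ X.isoSpec.inv, ?_, ?_⟩
  · rw [← Category.assoc, Scheme.toSpecΓ_naturality i, Category.assoc, ← Spec.map_comp_assoc, e1,
      Scheme.isoSpec_inv_naturality, Scheme.toSpecΓ_isoSpec_inv_assoc]
  · rw [Category.assoc, Category.assoc, ← Scheme.isoSpec_inv_naturality p, ← Spec.map_comp_assoc, e2,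
      Scheme.isoSpec_inv_naturality, Scheme.toSpecΓ_isoSpec_inv_assoc]

variable {A : Type u} [CommRing A] [IsLocalRing A] [IsNoetherianRing A]

local notation "Sys" => AmpleVan.AdicSys A (IsLocalRing.maximalIdeal A)

theorem isAffine_level (S : Sys) [IsAffine (S.X 0)] (k : ℕ) : IsAffine (S.X k) := by
  haveI : IsAffineHom (S.X k ↘ Spec (CommRingCat.of A)) :=
    (MorLib.Thick.isAffineHom_iff (S.j k) (𝟙 _) (S.X 0 ↘ Spec (CommRingCat.of A))
      (S.X k ↘ Spec (CommRingCat.of A)) (by rw [Category.comp_id, S.j_over])).mp inferInstance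
  exact isAffine_of_isAffineHom (S.X k ↘ Spec (CommRingCat.of A))

theorem isNilpotent_ker_i (S : Sys) [IsAffine (S.X 0)] (k : ℕ) :
    IsNilpotent (RingHom.ker (S.i k).appTop.hom) := by
  haveI := isAffine_level S (k + 1)
  have h := AmpleVan.ker_ideal_of_isPullback (S.square_i k) ⟨⊤, isAffineOpen_top _⟩
  rw [FComplLib.ideal_ker] at h
  refine ⟨2, ?_⟩
  have e : RingHom.ker (S.i k).appTop.hom =
      (IsLocalRing.maximalIdeal A ^ (k + 1)).map (scal A (⊤ : (S.X (k + 1)).Opens)) := h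
  rw [e, ← Ideal.map_pow, ← pow_mul, Ideal.zero_eq_bot, Ideal.map_eq_bot_iff_le_ker]
  exact fun a ha => H9Existence.scal_pow_eq_zero S (k + 1) (Ideal.pow_le_pow_right (by omega) ha) _

theorem smooth_str (S : Sys) (hsm : ∀ k, Smooth (S.p k)) (k : ℕ) :
    ∀ U : (S.X k).Opens, IsAffineOpen U →
      letI := (Ideal.Quotient.lift (IsLocalRing.maximalIdeal A ^ (k + 1)) (scal A U)
        fun a ha => H9Existence.scal_pow_eq_zero S k ha U).toAlgebra
      Module.Flat (A ⧸ IsLocalRing.maximalIdeal A ^ (k + 1)) Γ(S.X k, U) := by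
  intro U hU
  haveI := hsm k
  have h := (S.p k).flat_appLE (isAffineOpen_top _) hU (le_top : U ≤ _)
  have e : Ideal.Quotient.lift (IsLocalRing.maximalIdeal A ^ (k + 1)) (scal A U)
      (fun a ha => H9Existence.scal_pow_eq_zero S k ha U) = RingHom.comp ((S.p k).appLE ⊤ U le_top).hom
      (Scheme.ΓSpecIso (CommRingCat.of (A ⧸ IsLocalRing.maximalIdeal A ^ (k + 1)))).inv.hom := by
    refine Ideal.Quotient.ringHom_ext (RingHom.ext fun a => ?_)
    have e0 : (CohB1.specQuot (IsLocalRing.maximalIdeal A) k).appTop ((Scheme.ΓSpecIso (CommRingCat.of A)).inv a) =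
        (Scheme.ΓSpecIso (CommRingCat.of (A ⧸ IsLocalRing.maximalIdeal A ^ (k + 1)))).inv
          (Ideal.Quotient.mk _ a) :=
      congr($(Scheme.ΓSpecIso_inv_naturality
        (CommRingCat.ofHom (Ideal.Quotient.mk (IsLocalRing.maximalIdeal A ^ (k + 1))))) a).symm
    show scal A U a = (S.p k).appLE ⊤ U le_top ((Scheme.ΓSpecIso _).inv (Ideal.Quotient.mk _ a))
    rw [← e0]
    rfl
  have h2 : (Ideal.Quotient.lift (IsLocalRing.maximalIdeal A ^ (k + 1)) (scal A U)
      fun a ha => H9Existence.scal_pow_eq_zero S k ha U).Flat := by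
    rw [e]
    exact RingHom.Flat.comp (RingHom.Flat.of_bijective
      (ConcreteCategory.bijective_of_isIso
        (Scheme.ΓSpecIso (CommRingCat.of (A ⧸ IsLocalRing.maximalIdeal A ^ (k + 1)))).inv)) h
  exact h2

theorem map_maximalIdeal_quotient (k : ℕ) :
    haveI : Nontrivial (A ⧸ IsLocalRing.maximalIdeal A ^ (k + 1)) := Ideal.Quotient.nontrivial_iff.2
      (ne_top_of_le_ne_top (IsLocalRing.maximalIdeal.isMaximal A).ne_top (Ideal.pow_le_self k.succ_ne_zero))
    haveI := IsLocalRing.of_surjective' (Ideal.Quotient.mk (IsLocalRing.maximalIdeal A ^ (k + 1)))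
      Ideal.Quotient.mk_surjective
    IsLocalRing.maximalIdeal (A ⧸ IsLocalRing.maximalIdeal A ^ (k + 1)) =
      (IsLocalRing.maximalIdeal A).map (Ideal.Quotient.mk (IsLocalRing.maximalIdeal A ^ (k + 1))) := by
  haveI : Nontrivial (A ⧸ IsLocalRing.maximalIdeal A ^ (k + 1)) := Ideal.Quotient.nontrivial_iff.2
    (ne_top_of_le_ne_top (IsLocalRing.maximalIdeal.isMaximal A).ne_top (Ideal.pow_le_self k.succ_ne_zero))
  haveI := IsLocalRing.of_surjective' (Ideal.Quotient.mk (IsLocalRing.maximalIdeal A ^ (k + 1)))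
    Ideal.Quotient.mk_surjective
  refine (IsLocalRing.eq_maximalIdeal ?_).symm
  rcases Ideal.map_eq_top_or_isMaximal_of_surjective _ (Ideal.Quotient.mk_surjective
    (I := IsLocalRing.maximalIdeal A ^ (k + 1))) (IsLocalRing.maximalIdeal.isMaximal A) with h | h
  · exfalso
    have h1 := congrArg (Ideal.comap (Ideal.Quotient.mk (IsLocalRing.maximalIdeal A ^ (k + 1)))) h
    rw [Ideal.comap_map_of_surjective' _ Ideal.Quotient.mk_surjective, Ideal.mk_ker, Ideal.comap_top,
      sup_eq_left.2 (Ideal.pow_le_self k.succ_ne_zero)] at h1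
    exact (IsLocalRing.maximalIdeal.isMaximal A).ne_top h1
  · exact h

/-- A map of smooth affine levels which is an isomorphism at the bottom is one. -/
theorem isIso_level (S T : Sys) (hS : ∀ k, Smooth (S.p k)) [IsAffine (S.X 0)] [IsAffine (T.X 0)]
    (ψ : S.X 0 ⟶ T.X 0) [IsIso ψ] (k : ℕ) (h : S.X k ⟶ T.X k)
    (hf : h ≫ (T.X k ↘ Spec (CommRingCat.of A)) = S.X k ↘ Spec (CommRingCat.of A))
    (hj : S.j k ≫ h = ψ ≫ T.j k) : IsIso h := by
  let m := IsLocalRing.maximalIdeal A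
  haveI := isAffine_level S k
  haveI := isAffine_level T k
  haveI : IsClosedImmersion (S.j k ≫ h) := by rw [hj]; infer_instance
  haveI := H9Existence.isClosedImmersion_level S k h hf
  have hU : IsAffineOpen (⊤ : (S.X k).Opens) := isAffineOpen_top _
  let A' := A ⧸ m ^ (k + 1)
  haveI : Nontrivial A' := Ideal.Quotient.nontrivial_iff.2
    (ne_top_of_le_ne_top (IsLocalRing.maximalIdeal.isMaximal A).ne_top (Ideal.pow_le_self k.succ_ne_zero))
  haveI : IsLocalRing A' := IsLocalRing.of_surjective' (Ideal.Quotient.mk (m ^ (k + 1))) Ideal.Quotient.mk_surjective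
  letI : Algebra A' Γ(T.X k, ⊤) := (Ideal.Quotient.lift (m ^ (k + 1)) (scal A ⊤)
    fun a ha => H9Existence.scal_pow_eq_zero T k ha ⊤).toAlgebra
  letI : Algebra A' Γ(S.X k, ⊤) := (Ideal.Quotient.lift (m ^ (k + 1)) (scal A ⊤)
    fun a ha => H9Existence.scal_pow_eq_zero S k ha ⊤).toAlgebra
  letI : Algebra Γ(T.X k, ⊤) Γ(S.X k, ⊤) := h.appTop.hom.toAlgebra
  haveI : IsScalarTower A' Γ(T.X k, ⊤) Γ(S.X k, ⊤) := IsScalarTower.of_algebraMap_eq fun c => by
    obtain ⟨a, rfl⟩ := Ideal.Quotient.mk_surjective c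
    show scal A (⊤ : (S.X k).Opens) a = h.app ⊤ (Coh.resTop (T.X k) (op ⊤) _)
    rw [AmpleVan.resTop_app]
    exact (congrArg (Coh.resTop (S.X k) (op ⊤))
      congr(($hf).appTop ((Scheme.ΓSpecIso (CommRingCat.of A)).inv a))).symm
  haveI : Module.Flat A' Γ(S.X k, ⊤) := smooth_str S hS k ⊤ hU
  have hT : (IsLocalRing.maximalIdeal A').map (algebraMap A' Γ(T.X k, ⊤)) =
      m.map (scal A (⊤ : (T.X k).Opens)) := by
    rw [map_maximalIdeal_quotient, Ideal.map_map]
    rfl
  have hS' : (IsLocalRing.maximalIdeal A').map (algebraMap A' Γ(S.X k, ⊤)) =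
      m.map (scal A (⊤ : (S.X k).Opens)) := by
    rw [map_maximalIdeal_quotient, Ideal.map_map]
    rfl
  have hker : ∀ (W : Sys) [IsAffine (W.X k)] (y : Γ(W.X k, ⊤)),
      y ∈ m.map (scal A (⊤ : (W.X k).Opens)) ↔ (W.j k).appTop y = 0 := fun W _ y => by
    have h1 := AmpleVan.ker_ideal_of_isPullback (W.square_j' k) ⟨⊤, isAffineOpen_top _⟩
    rw [show m ^ (0 + 1) = m by rw [zero_add, pow_one], FComplLib.ideal_ker] at h1
    rw [← h1]
    rfl
  have hinj : Function.Injective h.appTop := (injective_iff_map_eq_zero _).2 fun x hx => by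
    have h1 := AmpleVan.mem_pow_of_apply_eq_zero (A := A') (Algebra.linearMap Γ(T.X k, ⊤) Γ(S.X k, ⊤))
      (fun y hy => by
        rw [Ideal.smul_top_eq_map, Submodule.restrictScalars_mem, Ideal.map_map,
          ← IsScalarTower.algebraMap_eq, hS', hker S] at hy
        rw [Ideal.smul_top_eq_map, Submodule.restrictScalars_mem, Algebra.algebraMap_self, Ideal.map_id,
          hT, hker T]
        apply (ConcreteCategory.bijective_of_isIso ψ.appTop).1
        rw [map_zero]
        exact (congr(($hj).appTop y)).symm.trans hy) hx (k + 1)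
    rw [hT, ← Ideal.map_pow, Ideal.smul_eq_mul, Ideal.mul_top] at h1
    have h0 : (m ^ (k + 1)).map (scal A (⊤ : (T.X k).Opens)) = ⊥ := by
      rw [Ideal.map_eq_bot_iff_le_ker]
      exact fun c hc => H9Existence.scal_pow_eq_zero T k hc _
    rwa [h0, Ideal.mem_bot] at h1
  haveI : IsIso h.appTop :=
    (ConcreteCategory.isIso_iff_bijective _).2 ⟨hinj, h.app_surjective ⊤ (isAffineOpen_top _)⟩
  exact (HasAffineProperty.iff_of_isAffine (P := MorphismProperty.isomorphisms Scheme.{u})).2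
    ⟨isAffine_level S k, inferInstance⟩

theorem exists_iso_levels (S T : Sys) (hS : ∀ k, Smooth (S.p k)) (hT : ∀ k, Smooth (T.p k))
    [IsAffine (S.X 0)] [IsAffine (T.X 0)] (ψ₀ : S.X 0 ≅ T.X 0) (h₀ : ψ₀.hom ≫ T.p 0 = S.p 0) :
    ∃ ψ : ∀ k, S.X k ≅ T.X k, ψ 0 = ψ₀ ∧ (∀ k, (ψ k).hom ≫ T.p k = S.p k) ∧
      ∀ k, S.i k ≫ (ψ (k + 1)).hom = (ψ k).hom ≫ T.i k := by
  let P := fun k => {e : S.X k ≅ T.X k // e.hom ≫ T.p k = S.p k ∧ S.j k ≫ e.hom = ψ₀.hom ≫ T.j k}
  have step : ∀ k (e : P k), ∃ e' : P (k + 1), S.i k ≫ e'.1.hom = e.1.hom ≫ T.i k := by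
    rintro k ⟨e, he, hej⟩
    haveI := isAffine_level S k
    haveI := isAffine_level S (k + 1)
    haveI := isAffine_level T (k + 1)
    haveI := hT (k + 1)
    obtain ⟨h, h1, h2⟩ := exists_lift_affine (S.i k) (isNilpotent_ker_i S k) (T.p (k + 1)) (S.p (k + 1))
      (e.hom ≫ T.i k) (by rw [Category.assoc, (T.cart k).w, (S.cart k).w, reassoc_of% he])
    have hj : S.j (k + 1) ≫ h = ψ₀.hom ≫ T.j (k + 1) := by
      show (S.j k ≫ S.i k) ≫ h = _
      rw [Category.assoc, h1, reassoc_of% hej]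
      rfl
    haveI := isIso_level S T hS ψ₀.hom (k + 1) h (by
      show h ≫ T.p (k + 1) ≫ _ = S.p (k + 1) ≫ _
      rw [reassoc_of% h2]) hj
    exact ⟨⟨asIso h, h2, hj⟩, h1⟩
  choose next hnext using step
  let ψ : ∀ k, P k := fun k => Nat.rec (motive := P)
    ⟨ψ₀, h₀, (Category.id_comp _).trans (Category.comp_id _).symm⟩ next k
  exact ⟨fun k => (ψ k).1, rfl, fun k => (ψ k).2.1, fun k => hnext k (ψ k)⟩

end Groth.Agent.H9CurveLift
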