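import Mathlib.RingTheory.Smooth.StandardSmooth
import Mathlib.RingTheory.Smooth.StandardSmoothCotangent

/-! Standard smooth algebras lift along surjections. -/

set_option autoImplicit false
set_option linter.style.haveILetI false
set_option backward.isDefEq.respectTransparency false
set_option backward.isDefEq.respectTransparency.types false

universe u

open MvPolynomial Algebra

noncomputable section

namespace Groth.Agent.H9CurveLift

theorem exists_lift_standardSmooth (R k : Type u) [CommRing R] [CommRing k] [Algebra R k]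
    (hk : Function.Surjective (algebraMap R k)) (S : Type u) [CommRing S] [Algebra R S] [Algebra k S]
    [IsScalarTower R k S] [Algebra.IsStandardSmooth k S] :
    ∃ (B : Type u) (_ : CommRing B) (_ : Algebra R B), Algebra.Smooth R B ∧
      ∃ π : B →ₐ[R] S, Function.Surjective π ∧
        RingHom.ker π = (RingHom.ker (algebraMap R k)).map (algebraMap R B) := by
  classical
  obtain ⟨ι, σ, _, _, ⟨P⟩⟩ := ‹Algebra.IsStandardSmooth k S›.out
  cases nonempty_fintype σ
  let ψ : MvPolynomial ι R →+* MvPolynomial ι k := MvPolynomial.map (algebraMap R k)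
  choose f hf using fun s => MvPolynomial.map_surjective (algebraMap R k) hk (P.relation s)
  let P₀ := PreSubmersivePresentation.naive (v := f) P.map P.map_inj
  let B₀ := MvPolynomial ι R ⧸ Ideal.span (Set.range f)
  let Δ : B₀ := P₀.jacobian
  let B := Localization.Away Δ
  let Q : SubmersivePresentation R B (Unit ⊕ ι) (Unit ⊕ σ) :=
    { toPreSubmersivePresentation :=
        (PreSubmersivePresentation.localizationAway B Δ).comp P₀
      jacobian_isUnit := by
        rw [PreSubmersivePresentation.comp_jacobian_eq_jacobian_smul_jacobian, Algebra.smul_def,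
          PreSubmersivePresentation.localizationAway_jacobian, ← map_mul]
        exact (map_mul (algebraMap B₀ B) _ _).symm ▸
          ((IsLocalization.map_units B (⟨Δ, 1, by simp⟩ : Submonoid.powers Δ)).mul
            (IsLocalization.map_units B (⟨Δ, 1, by simp⟩ : Submonoid.powers Δ))) }
  haveI : Algebra.IsStandardSmooth R B := Q.isStandardSmooth
  let ev : MvPolynomial ι R →ₐ[R] S := aeval P.val
  have hev : ∀ F, ev F = aeval P.val (ψ F) := fun F => (MvPolynomial.aeval_map_algebraMap k P.val F).symm
  have hev0 : ∀ F ∈ Ideal.span (Set.range f), ev F = 0 := fun F hF => by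
    suffices Ideal.span (Set.range f) ≤ RingHom.ker ev from this hF
    rw [Ideal.span_le]
    rintro _ ⟨s, rfl⟩
    show ev (f s) = 0
    rw [hev, show ψ (f s) = P.relation s from hf s]
    exact P.aeval_val_relation s
  let π₀ : B₀ →ₐ[R] S := Ideal.Quotient.liftₐ _ ev hev0
  have hΔ : IsUnit (π₀ Δ) := by
    have e : P₀.jacobiMatrix.map ψ = P.jacobiMatrix := by
      ext i j : 1
      rw [Matrix.map_apply, P.jacobiMatrix_apply, PreSubmersivePresentation.jacobiMatrix_naive]
      exact (MvPolynomial.pderiv_map).symm.trans (congrArg _ (hf j))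
    have e2 : π₀ Δ = P.jacobian := by
      show π₀ P₀.jacobian = _
      rw [PreSubmersivePresentation.jacobian_eq_jacobiMatrix_det, P.jacobian_eq_jacobiMatrix_det, ← e,
        ← RingHom.mapMatrix_apply, ← RingHom.map_det, P.algebraMap_apply]
      show ev P₀.jacobiMatrix.det = _
      exact hev _
    rw [e2]
    exact P.jacobian_isUnit
  have hunit : ∀ y : Submonoid.powers Δ, IsUnit (π₀ y) := by
    rintro ⟨_, n, rfl⟩
    rw [map_pow]
    exact hΔ.pow n
  let π : B →ₐ[R] S := IsLocalization.liftAlgHom (M := Submonoid.powers Δ) (f := π₀) hunit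
  have hπ : ∀ b : B₀, π (algebraMap B₀ B b) = π₀ b := fun b =>
    by rw [IsLocalization.liftAlgHom_apply]; exact IsLocalization.lift_eq hunit b
  refine ⟨B, inferInstance, inferInstance, inferInstance, π, fun s => ?_, le_antisymm ?_ ?_⟩
  · obtain ⟨G, hG⟩ := P.aeval_val_surjective s
    obtain ⟨F, rfl⟩ := MvPolynomial.map_surjective (algebraMap R k) hk G
    exact ⟨algebraMap B₀ B (Ideal.Quotient.mk _ F), (hπ _).trans ((hev F).trans hG)⟩
  · intro x hx
    obtain ⟨b, y, rfl⟩ := IsLocalization.exists_mk'_eq (Submonoid.powers Δ) x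
    have hb : π₀ b = 0 := by
      rw [← hπ, ← IsLocalization.mk'_spec B b y, map_mul]
      rw [RingHom.mem_ker] at hx
      rw [hx, zero_mul]
    obtain ⟨F, rfl⟩ := Ideal.Quotient.mk_surjective b
    have h1 : ψ F ∈ (Ideal.span (Set.range f)).map ψ := by
      rw [Ideal.map_span, ← Set.range_comp, show (⇑ψ ∘ f) = P.relation from funext hf,
        P.span_range_relation_eq_ker, P.ker_eq_ker_aeval_val, RingHom.mem_ker]
      exact (hev F).symm.trans hb
    obtain ⟨G, hG, hGF⟩ := (Ideal.mem_map_iff_of_surjective ψ
      (MvPolynomial.map_surjective (algebraMap R k) hk)).1 h1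
    have h2 : F - G ∈ (RingHom.ker (algebraMap R k)).map MvPolynomial.C := by
      rw [← MvPolynomial.ker_map]
      exact RingHom.mem_ker.2 (by rw [map_sub, sub_eq_zero]; exact hGF.symm)
    have h3 := Ideal.mem_map_of_mem ((algebraMap B₀ B).comp (Ideal.Quotient.mk (Ideal.span (Set.range f)))) h2
    rw [Ideal.map_map, map_sub, RingHom.comp_apply, RingHom.comp_apply, Ideal.Quotient.eq_zero_iff_mem.2 hG,
      map_zero, sub_zero] at h3
    rw [IsLocalization.mk'_eq_mul_mk'_one (M := Submonoid.powers Δ)]
    refine Ideal.mul_mem_right _ _ ?_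
    exact h3
  · rw [Ideal.map_le_iff_le_comap]
    intro r hr
    rw [Ideal.mem_comap, RingHom.mem_ker, π.commutes, IsScalarTower.algebraMap_apply R k S,
      RingHom.mem_ker.1 hr, map_zero]

end Groth.Agent.H9CurveLift
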