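import Groth.Agent.H9CurveLift.Sys
import Groth.Agent.H9CurveLift.StdLift

/-! Extending smooth lifts over affine opens. -/

set_option autoImplicit false
set_option linter.style.haveILetI false
set_option backward.isDefEq.respectTransparency false
set_option backward.isDefEq.respectTransparency.types false

universe u

open CategoryTheory CategoryTheory.Limits AlgebraicGeometry TopologicalSpace Opposite
open scoped TensorProduct

noncomputable section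

namespace Groth.Agent.H9CurveLift

open Groth.Agent

variable {A : Type u} [CommRing A] [IsLocalRing A] [IsNoetherianRing A]

local notation "𝔪" => IsLocalRing.maximalIdeal A

theorem exists_smSys_sup {Y : Scheme.{u}} (y : Y ⟶ Spec (CommRingCat.of A)) (O V : Y.Opens)
    (hOV : IsAffineOpen (O ⊓ V)) (P : SmSys 𝔪 (O.ι ≫ y)) (Q : SmSys 𝔪 (V.ι ≫ y)) :
    Nonempty (SmSys 𝔪 ((O ⊔ V).ι ≫ y)) := by
  let WS : (P.S.X 0).Opens := P.e.inv ⁻¹ᵁ (O.ι ⁻¹ᵁ V)
  let WT : (Q.S.X 0).Opens := Q.e.inv ⁻¹ᵁ (V.ι ⁻¹ᵁ O)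
  let R := restrict P.S WS
  let R' := restrict Q.S WT
  let a : R.X 0 ⟶ Y := (lev P.S WS 0).ι ≫ P.e.inv ≫ O.ι
  let b : R'.X 0 ⟶ Y := (lev Q.S WT 0).ι ≫ Q.e.inv ≫ V.ι
  haveI : IsOpenImmersion a := inferInstanceAs (IsOpenImmersion (Scheme.Opens.ι _ ≫ P.e.inv ≫ O.ι))
  haveI : IsOpenImmersion b := inferInstanceAs (IsOpenImmersion (Scheme.Opens.ι _ ≫ Q.e.inv ≫ V.ι))
  have hra : Set.range a = (O ⊓ V : Y.Opens) := by
    refine Set.Subset.antisymm ?_ fun z hz => ?_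
    · rintro _ ⟨⟨x, hx⟩, rfl⟩
      rw [lev_zero] at hx
      exact ⟨(P.e.inv x).2, hx⟩
    · refine ⟨⟨P.e.hom ⟨z, hz.1⟩, ?_⟩, ?_⟩
      · rw [lev_zero]
        show O.ι (P.e.inv (P.e.hom ⟨z, hz.1⟩)) ∈ V
        rw [← Scheme.Hom.comp_apply P.e.hom, Iso.hom_inv_id]
        exact hz.2
      · show O.ι (P.e.inv (P.e.hom ⟨z, hz.1⟩)) = z
        rw [← Scheme.Hom.comp_apply P.e.hom, Iso.hom_inv_id]
        rfl
  have hrb : Set.range b = (O ⊓ V : Y.Opens) := by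
    refine Set.Subset.antisymm ?_ fun z hz => ?_
    · rintro _ ⟨⟨x, hx⟩, rfl⟩
      rw [lev_zero] at hx
      exact ⟨hx, (Q.e.inv x).2⟩
    · refine ⟨⟨Q.e.hom ⟨z, hz.2⟩, ?_⟩, ?_⟩
      · rw [lev_zero]
        show V.ι (Q.e.inv (Q.e.hom ⟨z, hz.2⟩)) ∈ O
        rw [← Scheme.Hom.comp_apply Q.e.hom, Iso.hom_inv_id]
        exact hz.1
      · show V.ι (Q.e.inv (Q.e.hom ⟨z, hz.2⟩)) = z
        rw [← Scheme.Hom.comp_apply Q.e.hom, Iso.hom_inv_id]
        rfl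
  haveI : IsAffine (O ⊓ V : Y.Opens).toScheme := hOV
  haveI : IsAffine (R.X 0) := IsAffine.of_isIso
    (IsOpenImmersion.isoOfRangeEq a (O ⊓ V).ι (hra.trans (Scheme.Opens.range_ι _).symm)).hom
  haveI : IsAffine (R'.X 0) := IsAffine.of_isIso
    (IsOpenImmersion.isoOfRangeEq b (O ⊓ V).ι (hrb.trans (Scheme.Opens.range_ι _).symm)).hom
  let ψ₀ := IsOpenImmersion.isoOfRangeEq a b (hra.trans hrb.symm)
  have hψ₀ : ψ₀.hom ≫ b = a := IsOpenImmersion.isoOfRangeEq_hom_fac _ _ _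
  haveI : Mono (CohB1.specQuot 𝔪 0) := inferInstance
  have hRs : ∀ k, Smooth (R.p k) := fun k => by
    haveI := P.smooth k
    exact inferInstanceAs (Smooth ((lev P.S WS k).ι ≫ P.S.p k))
  have hR's : ∀ k, Smooth (R'.p k) := fun k => by
    haveI := Q.smooth k
    exact inferInstanceAs (Smooth ((lev Q.S WT k).ι ≫ Q.S.p k))
  obtain ⟨ψ, hψ0, hψp, hψi⟩ := exists_iso_levels R R' hRs hR's ψ₀ (by
    rw [← cancel_mono (CohB1.specQuot 𝔪 0), Category.assoc]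
    show ψ₀.hom ≫ (R'.X 0 ↘ Spec (CommRingCat.of A)) = (R.X 0 ↘ Spec (CommRingCat.of A))
    rw [restrict_str, restrict_str, (Iso.eq_inv_comp _).2 P.e_str, (Iso.eq_inv_comp _).2 Q.e_str]
    simpa only [a, b, Category.assoc] using congrArg (· ≫ y) hψ₀)
  let g : ∀ k, R.X k ⟶ P.S.X k := fun k => (lev P.S WS k).ι
  let h : ∀ k, R.X k ⟶ Q.S.X k := fun k => (ψ k).hom ≫ (lev Q.S WT k).ι
  haveI : ∀ k, IsOpenImmersion (g k) := fun k => inferInstanceAs (IsOpenImmersion (Scheme.Opens.ι _))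
  haveI : ∀ k, IsOpenImmersion (h k) := fun k =>
    inferInstanceAs (IsOpenImmersion ((ψ k).hom ≫ Scheme.Opens.ι (lev Q.S WT k)))
  obtain ⟨U, e, hU, he⟩ := exists_glue_sys P.S Q.S R g h (fun k => rfl)
    (fun k => (Category.assoc _ _ _).trans (hψp k)) (fun k => Scheme.Hom.resLE_comp_ι _ _)
    (fun k => by
      show R.i k ≫ (ψ (k + 1)).hom ≫ (lev Q.S WT (k + 1)).ι = ((ψ k).hom ≫ (lev Q.S WT k).ι) ≫ Q.S.i k
      rw [reassoc_of% (hψi k), Category.assoc]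
      exact congrArg ((ψ k).hom ≫ ·) (Scheme.Hom.resLE_comp_ι _ _))
    P.smooth Q.smooth
  have hw : g 0 ≫ P.e.inv ≫ O.ι = h 0 ≫ Q.e.inv ≫ V.ι := by
    show a = ((ψ 0).hom ≫ (lev Q.S WT 0).ι) ≫ Q.e.inv ≫ V.ι
    rw [hψ0, Category.assoc]
    exact hψ₀.symm
  let d := pushout.desc (P.e.inv ≫ O.ι) (Q.e.inv ≫ V.ι) hw
  haveI : IsOpenImmersion d := by
    refine isOpenImmersion_pushout _ _ d (by rw [pushout.inl_desc]; infer_instance)
      (by rw [pushout.inr_desc]; infer_instance) fun p q hpq => ?_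
    have e1 : (pushout.inl (g 0) (h 0) ≫ d) p = (pushout.inr (g 0) (h 0) ≫ d) q := hpq
    rw [pushout.inl_desc, pushout.inr_desc] at e1
    have hp : p ∈ lev P.S WS 0 := by
      rw [lev_zero]
      show O.ι (P.e.inv p) ∈ V
      rw [show O.ι (P.e.inv p) = (Q.e.inv ≫ V.ι) q from e1]
      exact (Q.e.inv q).2
    refine ⟨⟨p, hp⟩, rfl, (Q.e.inv ≫ V.ι).isOpenEmbedding.injective ?_⟩
    rw [← Scheme.Hom.comp_apply, ← hw, ← e1]
    rfl
  have hrange : Set.range d = (O ⊔ V : Y.Opens) := by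
    refine Set.Subset.antisymm ?_ fun z hz => ?_
    · rintro _ ⟨w, rfl⟩
      rcases LocImmLib.pushout_jointly_surjective (g 0) (h 0) w with ⟨p, rfl⟩ | ⟨p, rfl⟩
      · rw [← Scheme.Hom.comp_apply, pushout.inl_desc]; exact Or.inl (P.e.inv p).2
      · rw [← Scheme.Hom.comp_apply, pushout.inr_desc]; exact Or.inr (Q.e.inv p).2
    · rcases hz with hz | hz
      · refine ⟨pushout.inl (g 0) (h 0) (P.e.hom ⟨z, hz⟩), ?_⟩
        rw [← Scheme.Hom.comp_apply, pushout.inl_desc, ← Scheme.Hom.comp_apply, Iso.hom_inv_id_assoc]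
        rfl
      · refine ⟨pushout.inr (g 0) (h 0) (Q.e.hom ⟨z, hz⟩), ?_⟩
        rw [← Scheme.Hom.comp_apply, pushout.inr_desc, ← Scheme.Hom.comp_apply, Iso.hom_inv_id_assoc]
        rfl
  let i := IsOpenImmersion.isoOfRangeEq (O ⊔ V).ι d ((Scheme.Opens.range_ι _).trans hrange.symm)
  refine ⟨⟨U, hU, i ≪≫ e.symm, ?_⟩⟩
  have key : e.inv ≫ (U.X 0 ↘ Spec (CommRingCat.of A)) = d ≫ y := by
    show e.inv ≫ U.p 0 ≫ CohB1.specQuot 𝔪 0 = _
    rw [reassoc_of% he]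
    refine pushout.hom_ext ?_ ?_
    · rw [pushout.inl_desc_assoc, pushout.inl_desc_assoc, Category.assoc, Iso.eq_inv_comp]
      exact P.e_str
    · rw [pushout.inr_desc_assoc, pushout.inr_desc_assoc, Category.assoc, Iso.eq_inv_comp]
      exact Q.e_str
  show (i.hom ≫ e.inv) ≫ _ = _
  rw [Category.assoc, key, ← Category.assoc, IsOpenImmersion.isoOfRangeEq_hom_fac]

/-- A standard smooth affine scheme over a quotient lifts to a smooth adic system. -/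
theorem exists_smSys_standardSmooth (S : Type u) [CommRing S] [Algebra A S]
    [Algebra (A ⧸ 𝔪) S] [IsScalarTower A (A ⧸ 𝔪) S] [Algebra.IsStandardSmooth (A ⧸ 𝔪) S] :
    Nonempty (SmSys 𝔪 (Spec.map (CommRingCat.ofHom (algebraMap A S)))) := by
  obtain ⟨B, _, _, hB, π, hπ, hker⟩ := exists_lift_standardSmooth A (A ⧸ 𝔪) Ideal.Quotient.mk_surjective S
  let g := Spec.map (CommRingCat.ofHom (algebraMap A B))
  haveI : Smooth g := (HasRingHomProperty.Spec_iff (P := @Smooth)).2 (RingHom.smooth_algebraMap.2 hB)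
  let J := 𝔪 ^ (0 + 1)
  have hk : J.map (algebraMap A B) = RingHom.ker π := by
    rw [hker]
    show _ = (RingHom.ker (Ideal.Quotient.mk 𝔪)).map _
    rw [Ideal.mk_ker, show J = 𝔪 by simp [J]]
  let e : S ≃ₐ[A] B ⊗[A] (A ⧸ J) :=
    ((Ideal.quotientKerAlgEquivOfSurjective hπ).symm.trans (Ideal.quotientEquivAlgOfEq A hk.symm)).trans
      ((Algebra.TensorProduct.quotIdealMapEquivTensorQuot B J).restrictScalars A)
  let i : Spec (CommRingCat.of S) ≅ pullback g (CohB1.specQuot 𝔪 0) :=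
    (Scheme.Spec.mapIso e.symm.toRingEquiv.toCommRingCatIso.op) ≪≫ (pullbackSpecIso A B (A ⧸ J)).symm
  refine ⟨⟨sysOf 𝔪 g, smooth_sysOf 𝔪 g, i, ?_⟩⟩
  show i.hom ≫ pullback.snd g (CohB1.specQuot 𝔪 0) ≫ CohB1.specQuot 𝔪 0 = _
  rw [← pullback.condition]
  show (Spec.map _ ≫ (pullbackSpecIso A B (A ⧸ J)).inv) ≫ pullback.fst _ _ ≫ g = _
  rw [Category.assoc]
  erw [reassoc_of% (pullbackSpecIso_inv_fst A B (A ⧸ J))]
  rw [← Spec.map_comp, ← Spec.map_comp]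
  refine congrArg Spec.map (CommRingCat.hom_ext (RingHom.ext fun c => ?_))
  exact e.symm.commutes c

end Groth.Agent.H9CurveLift
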