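import Groth.Agent.H9CurveLift.Cover
import Groth.Agent.PicGlue.Dim
import Mathlib.RingTheory.RingHom.StandardSmooth

/-! A smooth scheme of dimension one over the residue field lifts to a smooth adic system. -/

set_option autoImplicit false
set_option linter.style.haveILetI false
set_option backward.isDefEq.respectTransparency false
set_option backward.isDefEq.respectTransparency.types false

universe u

open CategoryTheory CategoryTheory.Limits AlgebraicGeometry TopologicalSpace Opposite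

noncomputable section

namespace Groth.Agent.H9CurveLift

open Groth.Agent

variable {A : Type u} [CommRing A] [IsLocalRing A] [IsNoetherianRing A]

local notation "𝔪" => IsLocalRing.maximalIdeal A
local notation "Rk" => Spec.map (CommRingCat.ofHom (IsLocalRing.residue A))

variable {X₀ : Scheme.{u}} (f₀ : X₀ ⟶ Spec (CommRingCat.of (IsLocalRing.ResidueField A)))

/-- Affine opens whose sections are standard smooth. -/
def IsStd (V : X₀.Opens) : Prop :=
  IsAffineOpen V ∧ (f₀.appLE ⊤ V le_top).hom.IsStandardSmooth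

theorem exists_isStd [Smooth f₀] {x : X₀} {O : X₀.Opens} (hx : x ∈ O) :
    ∃ V, IsStd f₀ V ∧ x ∈ V ∧ V ≤ O := by
  obtain ⟨U, hU, V, hV, hxV, e, hs⟩ := Smooth.exists_isStandardSmooth f₀ x
  obtain rfl : U = ⊤ := top_le_iff.1 fun z _ => by
    obtain rfl : z = f₀ x := @Subsingleton.elim (PrimeSpectrum (IsLocalRing.ResidueField A)) _ _ _
    exact e hxV
  obtain ⟨r, hle, hxr⟩ := hV.exists_basicOpen_le (V := O) ⟨x, hx⟩ hxV
  refine ⟨X₀.basicOpen r, ⟨hV.basicOpen r, ?_⟩, hxr, hle⟩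
  haveI := hV.isLocalization_basicOpen r
  rw [← Scheme.Hom.appLE_map f₀ e (homOfLE (X₀.basicOpen_le r)).op, CommRingCat.hom_comp]
  exact RingHom.isStandardSmooth_stableUnderCompositionWithLocalizationAway.2 _ r _ hs

theorem nonempty_smSys_of_isStd {V : X₀.Opens} (h : IsStd f₀ V) :
    Nonempty (SmSys 𝔪 (V.ι ≫ f₀ ≫ Rk)) := by
  obtain ⟨hV, hs⟩ := h
  let φ : (A ⧸ 𝔪) →+* Γ(X₀, V) := ((f₀.appLE ⊤ V le_top).hom).comp
    (Scheme.ΓSpecIso (CommRingCat.of (IsLocalRing.ResidueField A))).inv.hom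
  have hφ : φ.IsStandardSmooth := RingHom.isStandardSmooth_respectsIso.2 _
    ((Scheme.ΓSpecIso (CommRingCat.of (IsLocalRing.ResidueField A))).symm.commRingCatIsoToRingEquiv) hs
  letI : Algebra (A ⧸ 𝔪) Γ(X₀, V) := φ.toAlgebra
  letI : Algebra A Γ(X₀, V) := (φ.comp (Ideal.Quotient.mk 𝔪)).toAlgebra
  haveI : IsScalarTower A (A ⧸ 𝔪) Γ(X₀, V) := IsScalarTower.of_algebraMap_eq fun _ => rfl
  haveI : Algebra.IsStandardSmooth (A ⧸ 𝔪) Γ(X₀, V) := hφ
  obtain ⟨P⟩ := exists_smSys_standardSmooth (A := A) Γ(X₀, V)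
  refine ⟨⟨P.S, P.smooth, hV.isoSpec ≪≫ P.e, ?_⟩⟩
  rw [Iso.trans_hom, Category.assoc, P.e_str]
  show hV.isoSpec.hom ≫ Spec.map (CommRingCat.ofHom (IsLocalRing.residue A) ≫
      (Scheme.ΓSpecIso (CommRingCat.of (IsLocalRing.ResidueField A))).inv ≫ f₀.appLE ⊤ V le_top) = _
  rw [Spec.map_comp, Spec.map_comp]
  have e1 : hV.fromSpec = hV.isoSpec.inv ≫ V.ι := rfl
  have e2 := IsAffineOpen.SpecMap_appLE_fromSpec f₀ (isAffineOpen_top _) hV (le_top : V ≤ _)
  rw [IsAffineOpen.fromSpec_top, Scheme.isoSpec_Spec_inv, e1, Category.assoc] at e2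
  rw [Category.assoc, reassoc_of% e2, Iso.hom_inv_id_assoc]

variable [IsSeparated f₀] [Smooth f₀] [IsNoetherian X₀]

theorem exists_smSys_of_dim_one (hdim : topologicalKrullDim X₀ = 1) :
    ∃ P : SmSys 𝔪 (f₀ ≫ Rk), True := by
  classical
  haveI : X₀.IsSeparated := ⟨by
    rw [show terminal.from X₀ = f₀ ≫ terminal.from _ from Subsingleton.elim _ _]; infer_instance⟩
  have hle : topologicalKrullDim X₀ ≤ 1 := hdim.le
  haveI : Nonempty X₀ := by
    by_contra hX
    rw [not_nonempty_iff] at hX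
    rw [topologicalKrullDim] at hdim
    haveI : IsEmpty (IrreducibleCloseds X₀) := ⟨fun Z => hX.false Z.2.nonempty.some⟩
    rw [Order.krullDim_eq_bot] at hdim
    simp at hdim
  -- disjoint neighbourhoods of the generic points
  have hfin : (genericPoints X₀).Finite :=
    genericPoints.finite (NoetherianSpace.finite_irreducibleComponents)
  let others : X₀ → Set X₀ := fun η => ⋃ C ∈ irreducibleComponents X₀ \ {closure {η}}, C
  have hoc : ∀ η, IsClosed (others η) := fun η =>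
    (NoetherianSpace.finite_irreducibleComponents.subset Set.sdiff_subset).isClosed_biUnion fun C hC =>
      isClosed_of_mem_irreducibleComponents C hC.1
  let D : X₀ → X₀.Opens := fun η => ⟨(others η)ᶜ, (hoc η).isOpen_compl⟩
  have hD : ∀ η ∈ genericPoints X₀, η ∈ D η := fun η hη hmem => by
    obtain ⟨C, ⟨hC, hne⟩, hηC⟩ := Set.mem_iUnion₂.1 hmem
    have hsub : closure {η} ⊆ C := closure_minimal (Set.singleton_subset_iff.2 hηC)
      (isClosed_of_mem_irreducibleComponents C hC)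
    exact hne (Set.Subset.antisymm (hη.2 hC.1 hsub) hsub)
  have hdisj : ∀ η ∈ genericPoints X₀, ∀ η' ∈ genericPoints X₀, η ≠ η' → D η ⊓ D η' = ⊥ := by
    intro η hη η' hη' hne
    refine eq_bot_iff.2 fun x hx => ?_
    have key : ∀ ζ, x ∈ D ζ → irreducibleComponent x = closure {ζ} := fun ζ hζ => by
      by_contra hne'
      exact hζ (Set.mem_iUnion₂.2 ⟨_, ⟨irreducibleComponent_mem_irreducibleComponents x, hne'⟩,
        mem_irreducibleComponent⟩)
    exact (hne (inseparable_iff_closure_eq.2 ((key η hx.1).symm.trans (key η' hx.2))).eq).elim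
  choose! Vg hVg hηV hVD using fun η (hη : η ∈ genericPoints X₀) => exists_isStd f₀ (hD η hη)
  obtain ⟨V₀, hV₀, hxV₀, -⟩ := exists_isStd f₀ (O := ⊤) (x := Classical.arbitrary X₀) trivial
  have hbot : Nonempty (SmSys 𝔪 ((⊥ : X₀.Opens).ι ≫ f₀ ≫ Rk)) := by
    refine nonempty_smSys_of_isStd f₀ ⟨isAffineOpen_bot X₀, ?_⟩
    haveI := hV₀.1.isLocalization_basicOpen (0 : Γ(X₀, V₀))
    have h := RingHom.isStandardSmooth_stableUnderCompositionWithLocalizationAway.2
      Γ(X₀, X₀.basicOpen (0 : Γ(X₀, V₀))) (0 : Γ(X₀, V₀)) (f₀.appLE ⊤ V₀ le_top).hom hV₀.2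
    have key : ∀ W : X₀.Opens, W = X₀.basicOpen (0 : Γ(X₀, V₀)) →
        (f₀.appLE ⊤ W le_top).hom.IsStandardSmooth := by
      rintro W rfl
      rw [← Scheme.Hom.appLE_map f₀ (le_top : V₀ ≤ f₀ ⁻¹ᵁ ⊤) (homOfLE (X₀.basicOpen_le _)).op,
        CommRingCat.hom_comp]
      exact h
    exact key ⊥ (X₀.basicOpen_zero V₀).symm
  obtain ⟨O₁, hO₁g, hO₁a, P₁⟩ : ∃ O₁ : X₀.Opens, genericPoints X₀ ⊆ O₁ ∧ IsAffineOpen O₁ ∧
      Nonempty (SmSys 𝔪 (O₁.ι ≫ f₀ ≫ Rk)) := by
    suffices ∀ s : Finset X₀, ↑s ⊆ genericPoints X₀ →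
        IsAffineOpen (s.sup Vg) ∧ Nonempty (SmSys 𝔪 ((s.sup Vg).ι ≫ f₀ ≫ Rk)) from
      ⟨hfin.toFinset.sup Vg, fun η hη => Finset.le_sup (f := Vg) (hfin.mem_toFinset.2 hη) (hηV η hη),
        this _ hfin.coe_toFinset.le⟩
    intro s hs
    induction s using Finset.induction with
    | empty => rw [Finset.sup_empty]; exact ⟨isAffineOpen_bot X₀, hbot⟩
    | insert a s ha ih =>
      rw [Finset.coe_insert, Set.insert_subset_iff] at hs
      obtain ⟨hsa, ⟨P⟩⟩ := ih hs.2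
      obtain ⟨Q⟩ := nonempty_smSys_of_isStd f₀ (hVg a hs.1)
      have hd : s.sup Vg ⊓ Vg a = ⊥ := by
        rw [Finset.sup_inf_distrib_right]
        refine (Finset.sup_eq_bot_iff _ _).2 fun b hb => eq_bot_iff.2 ?_
        rw [← hdisj b (hs.2 hb) a hs.1 (fun h => ha (h ▸ hb))]
        exact inf_le_inf (hVD b (hs.2 hb)) (hVD a hs.1)
      rw [Finset.sup_insert, sup_comm]
      exact ⟨hsa.sup_of_disjoint (hVg a hs.1).1 (disjoint_iff.2 hd),
        exists_smSys_sup (f₀ ≫ Rk) _ _ (by rw [hd]; exact isAffineOpen_bot X₀) P Q⟩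
  obtain ⟨hF, hFc⟩ := PicGlue.finite_compl hle O₁ hO₁g
  let N : X₀ → X₀.Opens := fun p => ⟨((O₁ : Set X₀)ᶜ \ {p})ᶜ, by
    have h := (hF.subset (Set.sdiff_subset (t := ({p} : Set X₀)))).isClosed_biUnion (f := fun q => ({q} : Set X₀))
      fun q hq => hFc q hq.1
    rw [Set.biUnion_of_singleton] at h
    exact h.isOpen_compl⟩
  have hN : ∀ p, p ∉ O₁ → p ∈ N p := fun p _ h => h.2 rfl
  choose! W hW hpW hWN using fun p (hp : p ∉ O₁) => exists_isStd f₀ (hN p hp)
  obtain ⟨P₁⟩ := P₁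
  suffices ∀ s : Finset X₀, (∀ p ∈ s, p ∉ O₁) → Nonempty (SmSys 𝔪 ((O₁ ⊔ s.sup W).ι ≫ f₀ ≫ Rk)) by
    obtain ⟨P⟩ := this hF.toFinset fun p hp => hF.mem_toFinset.1 hp
    have htop : O₁ ⊔ hF.toFinset.sup W = ⊤ := eq_top_iff.2 fun x _ => by
      by_cases hx : x ∈ O₁
      · exact Or.inl hx
      · exact Or.inr (Finset.le_sup (f := W) (hF.mem_toFinset.2 hx) (hpW x hx))
    let i : X₀ ≅ (O₁ ⊔ hF.toFinset.sup W).toScheme := X₀.topIso.symm ≪≫ X₀.isoOfEq htop.symm
    refine ⟨⟨P.S, P.smooth, i ≪≫ P.e, ?_⟩, trivial⟩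
    rw [Iso.trans_hom, Category.assoc, P.e_str]
    simp [i]
  intro s hs
  induction s using Finset.induction with
  | empty => rw [Finset.sup_empty, sup_bot_eq]; exact ⟨P₁⟩
  | insert a s ha ih =>
    rw [Finset.forall_mem_insert] at hs
    obtain ⟨P⟩ := ih hs.2
    obtain ⟨Q⟩ := nonempty_smSys_of_isStd f₀ (hW a hs.1)
    have hint : (O₁ ⊔ s.sup W) ⊓ W a = O₁ ⊓ W a := by
      refine le_antisymm (fun x hx => ⟨?_, hx.2⟩) (inf_le_inf_right _ le_sup_left)
      by_contra hx1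
      have hxa : x = a := by
        by_contra hne
        exact hWN a hs.1 hx.2 ⟨hx1, hne⟩
      subst hxa
      rcases hx.1 with h | h
      · exact hx1 h
      · rw [Finset.sup_eq_iSup, SetLike.mem_coe] at h
        obtain ⟨b, hb'⟩ := Opens.mem_iSup.1 h
        obtain ⟨hb, hxb⟩ := Opens.mem_iSup.1 hb'
        exact hWN b (hs.2 b hb) hxb ⟨hx1, fun h => ha ((show x = b from h) ▸ hb)⟩
    rw [Finset.sup_insert, sup_comm (W a), ← sup_assoc]
    exact exists_smSys_sup (f₀ ≫ Rk) _ _ (by rw [hint]; exact hO₁a.inf (hW a hs.1).1) P Q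

end Groth.Agent.H9CurveLift
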