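import Groth.Agent.AmpleVan.AdicBase
import Groth.Agent.H9Existence.Nakayama
import Groth.Agent.SmoothCrit.Space
import Groth.Agent.VersalLift.Scheme

/-! An algebraization of a smooth adic system is smooth. -/

set_option autoImplicit false
set_option linter.style.haveILetI false
set_option backward.isDefEq.respectTransparency false
set_option backward.isDefEq.respectTransparency.types false

universe u

open CategoryTheory CategoryTheory.Limits AlgebraicGeometry TopologicalSpace Opposite IsLocalRing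

noncomputable section

namespace Groth.Agent.H9CurveLift

open Groth.Agent

theorem smooth_of_system {A : Type u} [CommRing A] [IsLocalRing A] [IsNoetherianRing A]
    (S : AmpleVan.AdicSys A (maximalIdeal A)) (hS : ∀ n, Smooth (S.p n)) {Y : Scheme.{u}}
    (g : Y ⟶ Spec (CommRingCat.of A)) [IsProper g] (e : ∀ n, S.X n ⟶ Y)
    (sq : ∀ n, IsPullback (e n) (S.p n) g (CohB1.specQuot (maximalIdeal A) n)) : Smooth g := by
  letI : Y.Over (Spec (CommRingCat.of A)) := ⟨g⟩
  haveI : UniversallyClosed (Y ↘ Spec (CommRingCat.of A)) := inferInstanceAs (UniversallyClosed g)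
  haveI : LocallyOfFinitePresentation g := inferInstance
  refine Scheme.Hom.smoothLocus_eq_top_iff.1 (eq_top_iff.2 fun x _ => ?_)
  obtain ⟨u, hu, hxu⟩ := H9Existence.exists_specializes_range (sq 0)
    ((Ideal.pow_le_self (by omega)).trans (IsLocalRing.maximalIdeal_le_jacobson ⊥)) x
  refine hxu.mem_open g.smoothLocus.isOpen
    (SmoothCrit.mem_smoothLocus_of_lift g u fun A' _ _ _ J _ t hJ _ _ ψ β hψu hψ hβ => ?_)
  haveI := SmoothCrit.isLocalHom_of_residue_surjective ψ hψ
  have hgu : g u = closedPoint A := by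
    have h1 : u ∈ (Y ↘ Spec (CommRingCat.of A)) ⁻¹'
        PrimeSpectrum.zeroLocus ((maximalIdeal A ^ (0 + 1) : Ideal A) : Set A) :=
      (H9Existence.range_of_isPullback (sq 0)).le hu
    rw [Set.mem_preimage, zero_add, pow_one, PrimeSpectrum.mem_zeroLocus] at h1
    exact PrimeSpectrum.ext ((maximalIdeal.isMaximal A).eq_of_le (g u).isPrime.ne_top h1).symm
  obtain ⟨b, rfl⟩ := Spec.map_surjective β
  have hcl : Spec.map b (closedPoint A') = closedPoint A := by
    haveI := IsLocalHom.of_surjective (Ideal.Quotient.mk J) Ideal.Quotient.mk_surjective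
    have h1 := congrArg (fun m : Spec (CommRingCat.of (A' ⧸ J)) ⟶ Spec (CommRingCat.of A) => m (closedPoint (A' ⧸ J))) hβ
    simp only [Scheme.Hom.comp_apply] at h1 hψu
    rw [hψu, hgu] at h1
    rwa [show Spec.map (CommRingCat.ofHom (Ideal.Quotient.mk J)) (closedPoint (A' ⧸ J)) = closedPoint A' from
      IsLocalRing.comap_closedPoint (Ideal.Quotient.mk J)] at h1
  haveI : IsLocalHom b.hom := ((IsLocalRing.local_hom_TFAE b.hom).out 0 4).2 (congrArg PrimeSpectrum.asIdeal hcl)
  obtain ⟨n, hn⟩ := IsArtinianRing.isNilpotent_jacobson_bot (R := A')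
  rw [IsLocalRing.jacobson_eq_maximalIdeal _ bot_ne_top] at hn
  have hb : ∀ a ∈ maximalIdeal A ^ (n + 1), b.hom a = 0 := fun a ha => by
    have h1 : b.hom a ∈ (maximalIdeal A ^ (n + 1)).map b.hom := Ideal.mem_map_of_mem _ ha
    rw [Ideal.map_pow] at h1
    have h2 : maximalIdeal A' ^ (n + 1) = ⊥ := by rw [pow_succ, hn]; simp
    have h3 := Ideal.pow_right_mono (Ideal.map_le_iff_le_comap.2
      (((IsLocalRing.local_hom_TFAE b.hom).out 0 3).1 ‹IsLocalHom b.hom›)) (n + 1) h1
    rw [h2, Ideal.mem_bot] at h3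
    exact h3
  let β' : Spec (CommRingCat.of A') ⟶ Spec (CommRingCat.of (A ⧸ maximalIdeal A ^ (n + 1))) :=
    Spec.map (CommRingCat.ofHom (Ideal.Quotient.lift _ b.hom hb))
  have hβ' : β' ≫ CohB1.specQuot (maximalIdeal A) n = Spec.map b := by
    show Spec.map _ ≫ Spec.map _ = _
    rw [← Spec.map_comp]
    rfl
  let a := (sq n).lift (Spec.map ψ ≫ Y.fromSpecStalk u)
    (Spec.map (CommRingCat.ofHom (Ideal.Quotient.mk J)) ≫ β') (by rw [Category.assoc _ β', hβ', hβ])
  haveI := hS n
  obtain ⟨c, hc1, hc2⟩ := VersalLift.exists_lift_smooth (S.p n) (Ideal.Quotient.mk J) Ideal.Quotient.mk_surjective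
    a β' ((sq n).lift_snd _ _ _).symm
  exact ⟨c ≫ e n, by rw [reassoc_of% hc1]; exact (sq n).lift_fst _ _ _,
    by rw [Category.assoc, (sq n).w, reassoc_of% hc2, hβ']⟩

end Groth.Agent.H9CurveLift
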