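import Groth.Agent.H9CurveLift.Affine
import Groth.Agent.LocImmLib.Glue

/-! Smooth adic systems lifting a scheme over the residue field: base change, restriction and gluing. -/

set_option autoImplicit false
set_option linter.style.haveILetI false
set_option backward.isDefEq.respectTransparency false
set_option backward.isDefEq.respectTransparency.types false

universe u

open CategoryTheory CategoryTheory.Limits AlgebraicGeometry TopologicalSpace Opposite

noncomputable section

namespace Groth.Agent.H9CurveLift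

open Groth.Agent

/-- A smooth adic system with a given bottom level. -/
structure SmSys {A : Type u} [CommRing A] (J : Ideal A) {Y : Scheme.{u}} (y : Y ⟶ Spec (CommRingCat.of A)) where
  /-- The system. -/
  S : AmpleVan.AdicSys A J
  smooth : ∀ k, Smooth (S.p k)
  /-- The identification of the bottom level. -/
  e : Y ≅ S.X 0
  e_str : e.hom ≫ (S.X 0 ↘ Spec (CommRingCat.of A)) = y

/-- The levels of a scheme over the base. -/
def sysOf {A : Type u} [CommRing A] (J : Ideal A) {Y : Scheme.{u}} (g : Y ⟶ Spec (CommRingCat.of A)) :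
    AmpleVan.AdicSys A J where
  X k := pullback g (CohB1.specQuot J k)
  p k := pullback.snd _ _
  i k := pullback.map _ _ _ _ (𝟙 _) (CohB1.specQuotTrans J k) (𝟙 _) (by simp)
    (by rw [Category.comp_id, CohB1.specQuotTrans_specQuot])
  cart k := IsPullback.of_right (h₁₁ := pullback.map g (CohB1.specQuot J k) g (CohB1.specQuot J (k + 1))
      (𝟙 _) (CohB1.specQuotTrans J k) (𝟙 _) (by simp) (by rw [Category.comp_id, CohB1.specQuotTrans_specQuot]))
    (by rw [pullback.lift_fst, Category.comp_id, CohB1.specQuotTrans_specQuot]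
        exact IsPullback.of_hasPullback _ _)
    (pullback.lift_snd _ _ _) (IsPullback.of_hasPullback _ _)

theorem smooth_sysOf {A : Type u} [CommRing A] (J : Ideal A) {Y : Scheme.{u}} (g : Y ⟶ Spec (CommRingCat.of A))
    [Smooth g] (k : ℕ) : Smooth ((sysOf J g).p k) := inferInstanceAs (Smooth (pullback.snd _ _))

variable {A : Type u} [CommRing A] {J : Ideal A} (S : AmpleVan.AdicSys A J)

theorem injective_i (k : ℕ) : Function.Injective (S.i k) := (S.i k).isClosedEmbedding.injective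

/-- The opens corresponding to an open of the bottom level. -/
def lev (W : (S.X 0).Opens) (k : ℕ) : (S.X k).Opens :=
  ⟨S.j k '' W, ((isHomeomorph_iff_isEmbedding_surjective.2
    ⟨(S.j k).isClosedEmbedding.isEmbedding, (S.j k).surjective⟩).isOpenMap _ W.2)⟩

theorem mem_lev (W : (S.X 0).Opens) (k : ℕ) (x : S.X 0) : S.j k x ∈ lev S W k ↔ x ∈ W :=
  ⟨fun ⟨z, hz, h⟩ => (S.j k).isClosedEmbedding.injective h ▸ hz, fun h => ⟨x, h, rfl⟩⟩

theorem preimage_lev (W : (S.X 0).Opens) (k : ℕ) : S.i k ⁻¹ᵁ lev S W (k + 1) = lev S W k := by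
  ext x
  obtain ⟨z, rfl⟩ := (S.j k).surjective x
  show S.i k (S.j k z) ∈ lev S W (k + 1) ↔ S.j k z ∈ lev S W k
  rw [← Scheme.Hom.comp_apply, mem_lev]
  exact mem_lev S W (k + 1) z

/-- The restriction to an open of the bottom level. -/
def restrict (W : (S.X 0).Opens) : AmpleVan.AdicSys A J where
  X k := lev S W k
  p k := (lev S W k).ι ≫ S.p k
  i k := (S.i k).resLE (lev S W (k + 1)) (lev S W k) (preimage_lev S W k).ge
  cart k := (IsOpenImmersion.isPullback ((S.i k).resLE (lev S W (k + 1)) (lev S W k) (preimage_lev S W k).ge)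
    (lev S W k).ι (lev S W (k + 1)).ι (S.i k) (Scheme.Hom.resLE_comp_ι _ _).symm
    (by simp [preimage_lev])).paste_vert (S.cart k)

theorem restrict_j (W : (S.X 0).Opens) : ∀ k, (restrict S W).j k ≫ (lev S W k).ι = (lev S W 0).ι ≫ S.j k
  | 0 => (Category.id_comp _).trans (Category.comp_id _).symm
  | k + 1 => by
    show ((restrict S W).j k ≫ (S.i k).resLE _ _ (preimage_lev S W k).ge) ≫ (lev S W (k + 1)).ι = _ ≫ S.j k ≫ S.i k
    rw [Category.assoc, Scheme.Hom.resLE_comp_ι, ← Category.assoc, restrict_j W k, Category.assoc]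

theorem restrict_str (W : (S.X 0).Opens) (k : ℕ) :
    ((restrict S W).X k ↘ Spec (CommRingCat.of A)) = (lev S W k).ι ≫ (S.X k ↘ Spec (CommRingCat.of A)) :=
  Category.assoc _ _ _

theorem lev_zero (W : (S.X 0).Opens) : lev S W 0 = W :=
  Opens.ext (Set.image_id _)

/-- A map out of a glueing is an open immersion. -/
theorem isOpenImmersion_pushout {W Y₁ Y₂ T : Scheme.{u}} (g₁ : W ⟶ Y₁) (g₂ : W ⟶ Y₂) [IsOpenImmersion g₁]
    [IsOpenImmersion g₂] (d : pushout g₁ g₂ ⟶ T) (h₁ : IsOpenImmersion (pushout.inl g₁ g₂ ≫ d))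
    (h₂ : IsOpenImmersion (pushout.inr g₁ g₂ ≫ d))
    (h : ∀ a b, d (pushout.inl g₁ g₂ a) = d (pushout.inr g₁ g₂ b) → ∃ w, g₁ w = a ∧ g₂ w = b) :
    IsOpenImmersion d := by
  refine IsOpenImmersion.of_forall_source_exists d (fun x y hxy => ?_) fun x => ?_
  · rcases LocImmLib.pushout_jointly_surjective g₁ g₂ x with ⟨a, rfl⟩ | ⟨a, rfl⟩ <;>
      rcases LocImmLib.pushout_jointly_surjective g₁ g₂ y with ⟨b, rfl⟩ | ⟨b, rfl⟩
    · exact congrArg _ ((pushout.inl g₁ g₂ ≫ d).isOpenEmbedding.injective hxy)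
    · exact (LocImmLib.pushout_eq_iff g₁ g₂).2 (h a b hxy)
    · exact ((LocImmLib.pushout_eq_iff g₁ g₂).2 (h b a hxy.symm)).symm
    · exact congrArg _ ((pushout.inr g₁ g₂ ≫ d).isOpenEmbedding.injective hxy)
  · rcases LocImmLib.pushout_jointly_surjective g₁ g₂ x with hx | hx
    · exact ⟨_, pushout.inl g₁ g₂, inferInstance, hx, h₁⟩
    · exact ⟨_, pushout.inr g₁ g₂, inferInstance, hx, h₂⟩

theorem smooth_pushout_desc {W Y₁ Y₂ T : Scheme.{u}} (g₁ : W ⟶ Y₁) (g₂ : W ⟶ Y₂) [IsOpenImmersion g₁]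
    [IsOpenImmersion g₂] (q₁ : Y₁ ⟶ T) (q₂ : Y₂ ⟶ T) [Smooth q₁] [Smooth q₂] (w : g₁ ≫ q₁ = g₂ ≫ q₂) :
    Smooth (pushout.desc q₁ q₂ w) := by
  refine IsZariskiLocalAtSource.of_openCover (Scheme.IsLocallyDirected.openCover (span g₁ g₂)) fun i => ?_
  rcases i with _ | (_ | _)
  · change Smooth (colimit.ι (span g₁ g₂) WalkingSpan.zero ≫ _)
    rw [← colimit.w (span g₁ g₂) WalkingSpan.Hom.fst, Category.assoc]
    change Smooth (g₁ ≫ pushout.inl g₁ g₂ ≫ _)
    rw [pushout.inl_desc]; infer_instance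
  · change Smooth (pushout.inl g₁ g₂ ≫ _)
    rw [pushout.inl_desc]; infer_instance
  · change Smooth (pushout.inr g₁ g₂ ≫ _)
    rw [pushout.inr_desc]; infer_instance

/-- Two systems glued along an isomorphism of open parts. -/
theorem exists_glue_sys (S T R : AmpleVan.AdicSys A J) (g : ∀ k, R.X k ⟶ S.X k) (h : ∀ k, R.X k ⟶ T.X k)
    [∀ k, IsOpenImmersion (g k)] [∀ k, IsOpenImmersion (h k)]
    (hg : ∀ k, g k ≫ S.p k = R.p k) (hh : ∀ k, h k ≫ T.p k = R.p k)
    (hgi : ∀ k, R.i k ≫ g (k + 1) = g k ≫ S.i k) (hhi : ∀ k, R.i k ≫ h (k + 1) = h k ≫ T.i k)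
    (hS : ∀ k, Smooth (S.p k)) (hT : ∀ k, Smooth (T.p k)) :
    ∃ (U : AmpleVan.AdicSys A J) (e : U.X 0 ≅ pushout (g 0) (h 0)),
      (∀ k, Smooth (U.p k)) ∧
      e.inv ≫ U.p 0 = pushout.desc (S.p 0) (T.p 0) ((hg 0).trans (hh 0).symm) := by
  let X := fun k => pushout (g k) (h k)
  let p : ∀ k, X k ⟶ Spec (CommRingCat.of (A ⧸ J ^ (k + 1))) := fun k =>
    pushout.desc (S.p k) (T.p k) ((hg k).trans (hh k).symm)
  let i : ∀ k, X k ⟶ X (k + 1) := fun k =>
    pushout.map _ _ _ _ (S.i k) (T.i k) (R.i k) (hgi k).symm (hhi k).symm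
  have hsurj : ∀ k, Function.Surjective (R.i k) := fun k => by
    haveI : Surjective (R.j k ≫ R.i k) := R.surjective_j (k + 1)
    exact (Surjective.of_comp (R.j k) (R.i k)).surj
  have hw : ∀ k, i k ≫ p (k + 1) = p k ≫ CohB1.specQuotTrans J k := fun k => by
    refine pushout.hom_ext ?_ ?_ <;>
      simp [i, p, pushout.map, (S.cart k).w, (T.cart k).w]
  have hc : ∀ k, IsPullback (i k) (p k) (p (k + 1)) (CohB1.specQuotTrans J k) := fun k => by
    let P := pullback (p (k + 1)) (CohB1.specQuotTrans J k)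
    let c : X k ⟶ P := pullback.lift (i k) (p k) (hw k)
    have hcf : c ≫ pullback.fst _ _ = i k := pullback.lift_fst _ _ _
    let eS := (S.cart k).isoPullback
    let eT := (T.cart k).isoPullback
    have h1 : pushout.inl (g k) (h k) ≫ c = eS.hom ≫
        pullback.map _ _ _ _ (pushout.inl (g (k + 1)) (h (k + 1))) (𝟙 _) (𝟙 _) (by simp [p]) (by simp) := by
      apply pullback.hom_ext <;> simp [c, i, p, eS, pushout.map]
    have h2 : pushout.inr (g k) (h k) ≫ c = eT.hom ≫
        pullback.map _ _ _ _ (pushout.inr (g (k + 1)) (h (k + 1))) (𝟙 _) (𝟙 _) (by simp [p]) (by simp) := by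
      apply pullback.hom_ext <;> simp [c, i, p, eT, pushout.map]
    haveI : IsClosedImmersion (CohB1.specQuotTrans J k) := by
      haveI : IsClosedImmersion (CohB1.specQuotTrans J k ≫ CohB1.specQuot J (k + 1)) := by
        rw [CohB1.specQuotTrans_specQuot]; infer_instance
      exact IsClosedImmersion.of_comp _ (CohB1.specQuot J (k + 1))
    haveI : IsOpenImmersion c := by
      refine isOpenImmersion_pushout _ _ c (by rw [h1]; infer_instance) (by rw [h2]; infer_instance) fun a b hab => ?_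
      have e1 : (pushout.inl (g k) (h k) ≫ c ≫ pullback.fst _ _) a = (pushout.inr (g k) (h k) ≫ c ≫ pullback.fst _ _) b :=
        congrArg (pullback.fst (p (k + 1)) (CohB1.specQuotTrans J k)) hab
      rw [hcf, show pushout.inl (g k) (h k) ≫ i k = S.i k ≫ pushout.inl _ _ from pushout.inl_desc _ _ _,
        show pushout.inr (g k) (h k) ≫ i k = T.i k ≫ pushout.inr _ _ from pushout.inr_desc _ _ _] at e1
      obtain ⟨w, hwa, hwb⟩ := (LocImmLib.pushout_eq_iff (g (k + 1)) (h (k + 1))).1 e1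
      obtain ⟨v, rfl⟩ := hsurj k w
      refine ⟨v, injective_i S k ?_, injective_i T k ?_⟩
      · rw [← Scheme.Hom.comp_apply, ← hgi k, Scheme.Hom.comp_apply, hwa]; rfl
      · rw [← Scheme.Hom.comp_apply, ← hhi k, Scheme.Hom.comp_apply, hwb]; rfl
    haveI : Surjective c := ⟨fun z => by
      obtain ⟨x, hx⟩ : pullback.fst (p (k + 1)) (CohB1.specQuotTrans J k) z ∈ Set.range (i k) := by
        rcases LocImmLib.pushout_jointly_surjective (g (k + 1)) (h (k + 1))
          (pullback.fst (p (k + 1)) (CohB1.specQuotTrans J k) z) with ⟨a, ha⟩ | ⟨a, ha⟩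
        · haveI := H9Existence.surjective_i S k
          obtain ⟨a, rfl⟩ := (S.i k).surjective a
          refine ⟨pushout.inl (g k) (h k) a, ?_⟩
          rw [← ha, ← Scheme.Hom.comp_apply, ← Scheme.Hom.comp_apply]
          simp [i, pushout.map] <;> rfl
        · haveI := H9Existence.surjective_i T k
          obtain ⟨a, rfl⟩ := (T.i k).surjective a
          refine ⟨pushout.inr (g k) (h k) a, ?_⟩
          rw [← ha, ← Scheme.Hom.comp_apply, ← Scheme.Hom.comp_apply]
          simp [i, pushout.map] <;> rfl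
      exact ⟨x, (pullback.fst (p (k + 1)) (CohB1.specQuotTrans J k)).isClosedEmbedding.injective (by
        rw [← Scheme.Hom.comp_apply, hcf]; exact hx)⟩⟩
    haveI : IsIso c := (isIso_iff_isOpenImmersion_and_surjective c).2 ⟨inferInstance, inferInstance⟩
    exact (IsPullback.of_hasPullback _ _).of_iso (asIso c).symm (Iso.refl _) (Iso.refl _) (Iso.refl _)
      (by simp [c]) (by simp [c]) (by simp) (by simp)
  exact ⟨⟨X, p, i, hc⟩, Iso.refl _, fun k => haveI := hS k; haveI := hT k; smooth_pushout_desc _ _ _ _ _,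
    Category.id_comp _⟩

end Groth.Agent.H9CurveLift
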